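import Cfsg.Agent.Lib.Helper1.Co1Mu.P2.Cert
set_option autoImplicit false
set_option maxRecDepth 100000

/-! # The exponent matrix of the normalising relations, with its adjugate -/

namespace Cfsg.Agent.Lib.Helper1.Co1Mu.P2
open Cfsg.Agent.Lib.Helper1.StemSA Cfsg.Agent.Lib.Helper4.Sparse

/-- the exponent matrix of the first 5 relations -/
def Em : ℕ → ℕ → ℤ := matOfRows
  [[0, -1, 0, 1, 0],
   [1, -1, 0, 0, 0],
   [0, 2, 0, -1, 0],
   [2, 0, 1, -2, 0],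
   [18, 18, 9, 9, 9]]

/-- its adjugate -/
def Fm : ℕ → ℕ → ℤ := matOfRows
  [[-9, -9, -9, 0, 0],
   [-9, 0, -9, 0, 0],
   [-18, 18, 0, -9, 0],
   [-18, 0, -9, 0, 0],
   [72, 0, 45, 9, -1]]

theorem hEm : ∀ r < D.k, ∀ g < D.k, Em r g = ((D.rels.getD r ([], [])).1.count g : ℤ) -
    ((D.rels.getD r ([], [])).2.count g : ℤ) := by
  show ∀ r < 5, ∀ g < 5, Em r g = ((rels.getD r ([], [])).1.count g : ℤ) -
    ((rels.getD r ([], [])).2.count g : ℤ)
  decide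

theorem hEF : ∀ r < D.k, ∀ j < D.k,
    ∑ g ∈ Finset.range D.k, Em r g * Fm g j = if r = j then (-9 : ℤ) else 0 := by
  show ∀ r < 5, ∀ j < 5,
    ∑ g ∈ Finset.range 5, Em r g * Fm g j = if r = j then (-9 : ℤ) else 0
  decide

theorem hDt : IsCoprime (-9 : ℤ) ((2 : ℕ) : ℤ) := by
  rw [Int.isCoprime_iff_gcd_eq_one]
  rfl

theorem hkr : D.k ≤ D.rels.length := by
  show 5 ≤ rels.length
  decide

end Cfsg.Agent.Lib.Helper1.Co1Mu.P2
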