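import Cfsg.Agent.Lib.Helper1.Co1Mu.P2.Cert
set_option autoImplicit false
set_option maxRecDepth 1000000
set_option Elab.async false
namespace Cfsg.Agent.Lib.Helper1.Co1Mu.P2
open Cfsg.Agent.Lib.Helper4.Sparse
theorem ck_12 : chkURange D C 49152 4096 = true := by decide +kernel
theorem ck_13 : chkURange D C 53248 4096 = true := by decide +kernel
theorem ck_14 : chkURange D C 57344 4096 = true := by decide +kernel
theorem ck_15 : chkURange D C 61440 4096 = true := by decide +kernel
theorem ck_16 : chkURange D C 65536 4096 = true := by decide +kernel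
theorem ck_17 : chkURange D C 69632 4096 = true := by decide +kernel
theorem ck_18 : chkURange D C 73728 4096 = true := by decide +kernel
theorem ck_19 : chkURange D C 77824 4096 = true := by decide +kernel
theorem ck_20 : chkURange D C 81920 4096 = true := by decide +kernel
theorem ck_21 : chkURange D C 86016 4096 = true := by decide +kernel
theorem ck_22 : chkURange D C 90112 4096 = true := by decide +kernel
theorem ck_23 : chkURange D C 94208 4096 = true := by decide +kernel
theorem chkU_1 (b : ℕ) (h1 : 49152 ≤ b) (h2 : b < 98304) : chkU D C b = true := by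
  rcases Nat.lt_or_ge b 53248 with g0 | g0
  · exact chkURange_spec D C 49152 4096 ck_12 b (by omega) (by omega)
  rcases Nat.lt_or_ge b 57344 with g1 | g1
  · exact chkURange_spec D C 53248 4096 ck_13 b (by omega) (by omega)
  rcases Nat.lt_or_ge b 61440 with g2 | g2
  · exact chkURange_spec D C 57344 4096 ck_14 b (by omega) (by omega)
  rcases Nat.lt_or_ge b 65536 with g3 | g3
  · exact chkURange_spec D C 61440 4096 ck_15 b (by omega) (by omega)
  rcases Nat.lt_or_ge b 69632 with g4 | g4
  · exact chkURange_spec D C 65536 4096 ck_16 b (by omega) (by omega)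
  rcases Nat.lt_or_ge b 73728 with g5 | g5
  · exact chkURange_spec D C 69632 4096 ck_17 b (by omega) (by omega)
  rcases Nat.lt_or_ge b 77824 with g6 | g6
  · exact chkURange_spec D C 73728 4096 ck_18 b (by omega) (by omega)
  rcases Nat.lt_or_ge b 81920 with g7 | g7
  · exact chkURange_spec D C 77824 4096 ck_19 b (by omega) (by omega)
  rcases Nat.lt_or_ge b 86016 with g8 | g8
  · exact chkURange_spec D C 81920 4096 ck_20 b (by omega) (by omega)
  rcases Nat.lt_or_ge b 90112 with g9 | g9
  · exact chkURange_spec D C 86016 4096 ck_21 b (by omega) (by omega)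
  rcases Nat.lt_or_ge b 94208 with g10 | g10
  · exact chkURange_spec D C 90112 4096 ck_22 b (by omega) (by omega)
  exact chkURange_spec D C 94208 4096 ck_23 b (by omega) (by omega)
end Cfsg.Agent.Lib.Helper1.Co1Mu.P2
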