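import Cfsg.Agent.Lib.Helper1.Co1Mu.P2.K2
import Cfsg.Agent.Lib.Helper1.Co1Mu.P2.Cert
set_option autoImplicit false
set_option maxRecDepth 1000000
set_option Elab.async false
namespace Cfsg.Agent.Lib.Helper1.Co1Mu.P2
open Cfsg.Agent.Lib.Helper4.Sparse
theorem ck_48 : chkURange D C 196608 4096 = true := by decide +kernel
theorem ck_49 : chkURange D C 200704 4096 = true := by decide +kernel
theorem ck_50 : chkURange D C 204800 4096 = true := by decide +kernel
theorem ck_51 : chkURange D C 208896 4096 = true := by decide +kernel
theorem ck_52 : chkURange D C 212992 4096 = true := by decide +kernel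
theorem ck_53 : chkURange D C 217088 4096 = true := by decide +kernel
theorem ck_54 : chkURange D C 221184 4096 = true := by decide +kernel
theorem ck_55 : chkURange D C 225280 4096 = true := by decide +kernel
theorem ck_56 : chkURange D C 229376 4096 = true := by decide +kernel
theorem ck_57 : chkURange D C 233472 4096 = true := by decide +kernel
theorem ck_58 : chkURange D C 237568 4096 = true := by decide +kernel
theorem ck_59 : chkURange D C 241664 4096 = true := by decide +kernel
theorem chkU_4 (b : ℕ) (h1 : 196608 ≤ b) (h2 : b < 245760) : chkU D C b = true := by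
  rcases Nat.lt_or_ge b 200704 with g0 | g0
  · exact chkURange_spec D C 196608 4096 ck_48 b (by omega) (by omega)
  rcases Nat.lt_or_ge b 204800 with g1 | g1
  · exact chkURange_spec D C 200704 4096 ck_49 b (by omega) (by omega)
  rcases Nat.lt_or_ge b 208896 with g2 | g2
  · exact chkURange_spec D C 204800 4096 ck_50 b (by omega) (by omega)
  rcases Nat.lt_or_ge b 212992 with g3 | g3
  · exact chkURange_spec D C 208896 4096 ck_51 b (by omega) (by omega)
  rcases Nat.lt_or_ge b 217088 with g4 | g4
  · exact chkURange_spec D C 212992 4096 ck_52 b (by omega) (by omega)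
  rcases Nat.lt_or_ge b 221184 with g5 | g5
  · exact chkURange_spec D C 217088 4096 ck_53 b (by omega) (by omega)
  rcases Nat.lt_or_ge b 225280 with g6 | g6
  · exact chkURange_spec D C 221184 4096 ck_54 b (by omega) (by omega)
  rcases Nat.lt_or_ge b 229376 with g7 | g7
  · exact chkURange_spec D C 225280 4096 ck_55 b (by omega) (by omega)
  rcases Nat.lt_or_ge b 233472 with g8 | g8
  · exact chkURange_spec D C 229376 4096 ck_56 b (by omega) (by omega)
  rcases Nat.lt_or_ge b 237568 with g9 | g9
  · exact chkURange_spec D C 233472 4096 ck_57 b (by omega) (by omega)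
  rcases Nat.lt_or_ge b 241664 with g10 | g10
  · exact chkURange_spec D C 237568 4096 ck_58 b (by omega) (by omega)
  exact chkURange_spec D C 241664 4096 ck_59 b (by omega) (by omega)
end Cfsg.Agent.Lib.Helper1.Co1Mu.P2
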