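import Cfsg.Agent.Lib.Helper1.Co1Mu.P2.K0
import Cfsg.Agent.Lib.Helper1.Co1Mu.P2.K1
import Cfsg.Agent.Lib.Helper1.Co1Mu.P2.K2
import Cfsg.Agent.Lib.Helper1.Co1Mu.P2.K3
import Cfsg.Agent.Lib.Helper1.Co1Mu.P2.K4
import Cfsg.Agent.Lib.Helper1.Co1Mu.P2.K5
import Cfsg.Agent.Lib.Helper1.Co1Mu.P2.K6
import Cfsg.Agent.Lib.Helper1.Co1Mu.P2.K7
import Cfsg.Agent.Lib.Helper1.Co1Mu.P2.K8
import Cfsg.Agent.Lib.Helper1.Co1Mu.P2.K9
import Cfsg.Agent.Lib.Helper1.Co1Mu.P2.K10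
set_option autoImplicit false

/-! # All the unknowns pass the check -/

namespace Cfsg.Agent.Lib.Helper1.Co1Mu.P2
open Cfsg.Agent.Lib.Helper4.Sparse

theorem chkU_all (b : ℕ) (hb : b < 491840) : chkU D C b = true := by
  rcases Nat.lt_or_ge b 49152 with g0 | g0
  · exact chkU_0 b (by omega) g0
  rcases Nat.lt_or_ge b 98304 with g1 | g1
  · exact chkU_1 b (by omega) g1
  rcases Nat.lt_or_ge b 147456 with g2 | g2
  · exact chkU_2 b (by omega) g2
  rcases Nat.lt_or_ge b 196608 with g3 | g3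
  · exact chkU_3 b (by omega) g3
  rcases Nat.lt_or_ge b 245760 with g4 | g4
  · exact chkU_4 b (by omega) g4
  rcases Nat.lt_or_ge b 294912 with g5 | g5
  · exact chkU_5 b (by omega) g5
  rcases Nat.lt_or_ge b 344064 with g6 | g6
  · exact chkU_6 b (by omega) g6
  rcases Nat.lt_or_ge b 393216 with g7 | g7
  · exact chkU_7 b (by omega) g7
  rcases Nat.lt_or_ge b 442368 with g8 | g8
  · exact chkU_8 b (by omega) g8
  rcases Nat.lt_or_ge b 491520 with g9 | g9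
  · exact chkU_9 b (by omega) g9
  exact chkU_10 b (by omega) hb

end Cfsg.Agent.Lib.Helper1.Co1Mu.P2
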