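import Cfsg.Agent.Lib.Helper1.Co1Mu.P2.Cert
set_option autoImplicit false
set_option maxRecDepth 1000000
set_option Elab.async false
namespace Cfsg.Agent.Lib.Helper1.Co1Mu.P2
open Cfsg.Agent.Lib.Helper4.Sparse
theorem ck_0 : chkURange D C 0 4096 = true := by decide +kernel
theorem ck_1 : chkURange D C 4096 4096 = true := by decide +kernel
theorem ck_2 : chkURange D C 8192 4096 = true := by decide +kernel
theorem ck_3 : chkURange D C 12288 4096 = true := by decide +kernel
theorem ck_4 : chkURange D C 16384 4096 = true := by decide +kernel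
theorem ck_5 : chkURange D C 20480 4096 = true := by decide +kernel
theorem ck_6 : chkURange D C 24576 4096 = true := by decide +kernel
theorem ck_7 : chkURange D C 28672 4096 = true := by decide +kernel
theorem ck_8 : chkURange D C 32768 4096 = true := by decide +kernel
theorem ck_9 : chkURange D C 36864 4096 = true := by decide +kernel
theorem ck_10 : chkURange D C 40960 4096 = true := by decide +kernel
theorem ck_11 : chkURange D C 45056 4096 = true := by decide +kernel
theorem chkU_0 (b : ℕ) (h1 : 0 ≤ b) (h2 : b < 49152) : chkU D C b = true := by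
  rcases Nat.lt_or_ge b 4096 with g0 | g0
  · exact chkURange_spec D C 0 4096 ck_0 b (by omega) (by omega)
  rcases Nat.lt_or_ge b 8192 with g1 | g1
  · exact chkURange_spec D C 4096 4096 ck_1 b (by omega) (by omega)
  rcases Nat.lt_or_ge b 12288 with g2 | g2
  · exact chkURange_spec D C 8192 4096 ck_2 b (by omega) (by omega)
  rcases Nat.lt_or_ge b 16384 with g3 | g3
  · exact chkURange_spec D C 12288 4096 ck_3 b (by omega) (by omega)
  rcases Nat.lt_or_ge b 20480 with g4 | g4
  · exact chkURange_spec D C 16384 4096 ck_4 b (by omega) (by omega)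
  rcases Nat.lt_or_ge b 24576 with g5 | g5
  · exact chkURange_spec D C 20480 4096 ck_5 b (by omega) (by omega)
  rcases Nat.lt_or_ge b 28672 with g6 | g6
  · exact chkURange_spec D C 24576 4096 ck_6 b (by omega) (by omega)
  rcases Nat.lt_or_ge b 32768 with g7 | g7
  · exact chkURange_spec D C 28672 4096 ck_7 b (by omega) (by omega)
  rcases Nat.lt_or_ge b 36864 with g8 | g8
  · exact chkURange_spec D C 32768 4096 ck_8 b (by omega) (by omega)
  rcases Nat.lt_or_ge b 40960 with g9 | g9
  · exact chkURange_spec D C 36864 4096 ck_9 b (by omega) (by omega)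
  rcases Nat.lt_or_ge b 45056 with g10 | g10
  · exact chkURange_spec D C 40960 4096 ck_10 b (by omega) (by omega)
  exact chkURange_spec D C 45056 4096 ck_11 b (by omega) (by omega)
end Cfsg.Agent.Lib.Helper1.Co1Mu.P2
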