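import Cfsg.Agent.Lib.Helper1.Co1Mu.P2.Cert
set_option autoImplicit false
set_option maxRecDepth 1000000

/-! # The residual relations between the distinguished unknowns -/

namespace Cfsg.Agent.Lib.Helper1.Co1Mu.P2
open Cfsg.Agent.Lib.Helper4.Sparse

theorem res_0 : chkResid D C 5 3 562949953421568 = true := by decide +kernel
theorem res_1 : chkResid D C 5 9 284782118502915 = true := by decide +kernel
theorem res_2 : chkResid D C 5 12 284782151926529 = true := by decide +kernel
theorem res_3 : chkResid D C 5 15 282583095247107 = true := by decide +kernel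
theorem res_4 : chkResid D C 5 24 12884902656 = true := by decide +kernel
theorem res_5 : chkResid D C 5 30 281483566842624 = true := by decide +kernel
theorem res_6 : chkResid D C 5 36 566261423734785 = true := by decide +kernel
theorem res_7 : chkResid D C 5 68 3307124948992 = true := by decide +kernel
theorem res_8 : chkResid D C 5 808 621387908319522735622651906 = true := by decide +kernel
theorem res_9 : chkResid D C 5 995 622601575024421910763078145 = true := by decide +kernel
theorem res_10 : chkResid D C 5 996 618970019643253096026472704 = true := by decide +kernel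
theorem res_11 : chkResid D C 5 1100 621387871426880112661955329 = true := by decide +kernel
theorem res_12 : chkResid D C 5 1105 618970056680856435783041536 = true := by decide +kernel
theorem res_13 : chkResid D C 5 1136 847732071792897 = true := by decide +kernel
theorem res_14 : chkResid D C 5 1178 618979501341203821532152320 = true := by decide +kernel
theorem res_15 : chkResid D C 5 1448 618979519860288068046225665 = true := by decide +kernel
theorem res_16 : chkResid D C 5 1472 310693954304159132539748865 = true := by decide +kernel
theorem res_17 : chkResid D C 5 1527 932086529361422864506553091 = true := by decide +kernel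

/-- the residual relations -/
def res : List (ℕ × ℕ × ℕ) :=
  [(5, 3, 562949953421568), (5, 9, 284782118502915), (5, 12, 284782151926529), (5, 15, 282583095247107), (5, 24, 12884902656), (5, 30, 281483566842624), (5, 36, 566261423734785), (5, 68, 3307124948992), (5, 808, 621387908319522735622651906), (5, 995, 622601575024421910763078145), (5, 996, 618970019643253096026472704), (5, 1100, 621387871426880112661955329), (5, 1105, 618970056680856435783041536), (5, 1136, 847732071792897), (5, 1178, 618979501341203821532152320), (5, 1448, 618979519860288068046225665), (5, 1472, 310693954304159132539748865), (5, 1527, 932086529361422864506553091)]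

theorem hres : ∀ x ∈ res, chkResid D C x.1 x.2.1 x.2.2 = true := by
  intro x hx
  simp only [res, List.mem_cons, List.mem_nil_iff, or_false] at hx
  rcases hx with rfl | rfl | rfl | rfl | rfl | rfl | rfl | rfl | rfl | rfl | rfl | rfl | rfl | rfl | rfl | rfl | rfl | rfl
  · exact res_0
  · exact res_1
  · exact res_2
  · exact res_3
  · exact res_4
  · exact res_5
  · exact res_6
  · exact res_7
  · exact res_8
  · exact res_9
  · exact res_10
  · exact res_11
  · exact res_12
  · exact res_13
  · exact res_14
  · exact res_15
  · exact res_16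
  · exact res_17

/-- the target relations -/
def tgt : ℕ → ℕ := fun i => List.getD [2, 256, 65536, 16777219, 4294967296, 1099511627776, 281474976710656, 72057594037927939, 18446744073709551619, 4722366482869645213699, 1208925819614629174706179, 309485009821345068724781056] i 0

/-- the combinations of the residual relations giving the target relations -/
def comb : ℕ → List ℕ := fun i => List.getD [[17, 17, 16, 16, 14, 14, 12, 12, 12, 9, 9, 8, 8, 8, 7, 7, 6, 6, 2, 2, 1, 1, 0, 0], [6, 6, 4, 4, 2, 2, 0], [6, 5, 4, 4, 4, 2, 2, 2, 0, 0, 0], [7, 7, 7, 5, 4, 4, 1, 0], [6, 6, 4, 2, 2, 0, 0, 0], [7, 7, 7, 6, 6, 5, 5, 2, 2], [6, 6, 6, 5, 5, 4, 4, 4, 2, 0, 0], [17, 17, 15, 15, 14, 14, 14, 12, 12, 12, 10, 10, 8, 8, 8, 7, 7, 7, 5, 4, 1, 1, 1, 0, 0], [16, 16, 15, 15, 15, 14, 14, 10, 10, 9, 9, 7, 7, 7, 5, 5, 5, 0, 0], [17, 16, 16, 16, 15, 14, 14, 10, 10, 9, 9, 7, 7, 7, 6, 6, 5, 5, 4, 4, 4, 2, 2, 1, 1, 0, 0, 0], [17, 16, 16, 16, 14, 14, 14, 10, 10, 10, 9, 6, 6, 6, 5, 5, 2, 0, 0, 0], [17, 15, 15, 15, 14, 14, 12, 12, 12, 10, 9, 8, 8, 8, 7, 7, 7, 6, 5, 4, 4, 2, 2, 2, 1, 0]] i []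

end Cfsg.Agent.Lib.Helper1.Co1Mu.P2
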